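import Cfsg.Agent.Lib.PrimePrincipal.Setup

/-!
# The principal block for a Sylow subgroup of prime order

It consists of the `e` characters constant `±1` on the sections and the exceptional family.
-/

set_option autoImplicit false
set_option linter.unusedSectionVars false

namespace Cfsg.Agent.Lib.PrimePrincipal.Main

open Cfsg.Agent.Lib.FirstPower Average Family Periods Setup
open Cfsg.Agent.Lib.FirstPower.CharOrbit (IsVPart)
open Cfsg.Agent.Lib.Characters.Basic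
open Cfsg.Agent.Lib.FpfBlock.Setting (Fpf)
open scoped ComplexConjugate

universe u

variable {p : ℕ} [Fact p.Prime] {G : Type u} [Group G] [Finite G] {P : Sylow p G} {x : G}

theorem degree_congr (hx : orderOf x = p) (χ : Cfsg.IrrCharacter G) {a : ℤ}
    (h : ∀ u : (ZMod p)ˣ, (χ : G → ℂ) (x ^ (u : ZMod p).val) = a) :
    (Cfsg.charDegree (χ : G → ℂ) : ℤ) ≡ a [ZMOD p] := by
  classical
  obtain ⟨c, hc⟩ := sum_apply_pow (pow_eq_one_of_order hx) (isCharacter_irr χ)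
  rw [← Finset.add_sum_erase _ _ (Finset.mem_univ (0 : ZMod p)), ZMod.val_zero, pow_zero,
    Finset.sum_congr rfl (g := fun _ => (a : ℂ)) (fun z hz => by
      simpa using h (Units.mk0 z (Finset.ne_of_mem_erase hz))),
    Finset.sum_const, Finset.card_erase_of_mem (Finset.mem_univ _), Finset.card_univ, ZMod.card,
    nsmul_eq_mul, Blocks.char_one_eq_degree, Nat.cast_sub (Fact.out : p.Prime).one_le] at hc
  have hc' : (Cfsg.charDegree (χ : G → ℂ) : ℤ) + ((p : ℤ) - 1) * a = (p : ℤ) * c := by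
    exact_mod_cast hc
  rw [Int.modEq_iff_dvd]
  exact ⟨a - c, by linear_combination -hc'⟩

theorem exists_structure (M : Ideal Cfsg.AlgInt) (hM : Cfsg.IsPModular p M) (hP : Nat.card P = p)
    {e : ℕ}
    (he : (Subgroup.centralizer ((P : Subgroup G) : Set G)).relIndex
      (Subgroup.normalizer ((P : Subgroup G) : Set G)) = e) :
    ∃ (R T : Finset (Cfsg.IrrCharacter G)) (a : Cfsg.IrrCharacter G → ℤ) (δ : ℤ),
      Cfsg.principalBlock M G = ↑R ∪ ↑T ∧ Disjoint R T ∧ R.card = e ∧ T.card = (p - 1) / e ∧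
      (δ = 1 ∨ δ = -1) ∧
      (∀ χ ∈ R, (a χ = 1 ∨ a χ = -1) ∧ (Cfsg.charDegree (χ : G → ℂ) : ℤ) ≡ a χ [ZMOD p] ∧
        ∀ y : G, y ∈ (P : Subgroup G) → y ≠ 1 →
          ∀ v : G, v ∈ Subgroup.centralizer ((P : Subgroup G) : Set G) → ¬ p ∣ orderOf v →
            (χ : G → ℂ) (y * v) = (a χ : ℂ)) ∧
      (∀ θ ∈ T, (Cfsg.charDegree (θ : G → ℂ) : ℤ) ≡ δ * (e : ℤ) [ZMOD p]) ∧
      (∀ θ ∈ T, ∀ θ' ∈ T, ∀ g : G, ¬ p ∣ orderOf g → (θ : G → ℂ) g = (θ' : G → ℂ) g) ∧
      ∀ θ ∈ T, ∀ g : G, ¬ p ∣ orderOf g →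
        (δ : ℂ) * (θ : G → ℂ) g = ∑ χ ∈ R, (a χ : ℂ) * (χ : G → ℂ) g := by
  classical
  obtain ⟨x, hx, hxP⟩ := exists_gen P hP
  have h2 := not_sq_dvd P hP
  have hxp := pow_eq_one_of_order hx
  obtain ⟨V, hV⟩ := exists_vpart hx h2
  obtain ⟨n, hF, hidx⟩ := exists_fpf hx hxP
  obtain rfl : e = Nat.card (autE hxp) := he ▸ hidx
  haveI := Fintype.ofFinite ((ZMod p)ˣ ⧸ autE hxp)
  haveI := Fintype.ofFinite (autE hxp)
  haveI := Fintype.ofFinite (Cfsg.IrrCharacter G)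
  haveI : Finite V := inferInstance
  haveI := Fintype.ofFinite V
  obtain ⟨R, Y, a, δ, hYinj, hYR, hδ, h1R, ha1, hRc, hRv, hYv, hout, hYreg, hrel⟩ :=
    exists_family hx h2 hV
  set T := Finset.univ.image Y with hT
  have hV1 : (1 : G) ∈ V := one_mem V
  have hsec : ∀ χ ∈ Cfsg.principalBlock M G, ∀ (u : (ZMod p)ˣ), ∀ v ∈ V,
      (χ : G → ℂ) (x ^ (u : ZMod p).val * v) = (χ : G → ℂ) (x ^ (u : ZMod p).val) := by
    intro χ hχ u v hv
    refine FpfBlock.Setting.section_const hF M hM ?_ (pow_mem_P hxP _) (pow_unit_ne_one hx u) χ hχ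
    refine ⟨v, rfl, (vpart_le hV v hv).pow_left _, ⟨1, ?_⟩, ((hV v).1 hv).2⟩
    rw [pow_one]
    exact orderOf_eq_prime (by rw [← pow_mul, mul_comm, pow_mul, hxp, one_pow])
      (pow_unit_ne_one hx u)
  have haval : ∀ (χ : G → ℂ) (c : ℂ) (u : (ZMod p)ˣ),
      (∀ v ∈ V, χ (x ^ (u : ZMod p).val * v) = c) → aval x V χ (u : ZMod p) = c := by
    intro χ c u h
    have hw : ∀ w : V, χ (x ^ (u : ZMod p).val * (w : G)) = c := fun w => h w w.2
    rw [aval, finsum_eq_sum_of_fintype, Finset.sum_congr rfl (fun w _ => hw w),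
      Finset.sum_const, Finset.card_univ, nsmul_eq_mul, ← mul_assoc, ← Nat.card_eq_fintype_card,
      inv_mul_cancel₀ (Nat.cast_ne_zero.2 Nat.card_pos.ne'), one_mul]
  -- everything in the block is in the family
  have hsub : ∀ χ ∈ Cfsg.principalBlock M G, χ ∈ R ∪ T := by
    intro χ hχ
    by_contra hnot
    rw [Finset.mem_union, not_or] at hnot
    obtain ⟨y, hy, hy1, hne⟩ := FpfBlock.Setting.exists_ne_zero hF M hM χ hχ
      fun h => hnot.1 (h ▸ h1R)
    obtain ⟨u, rfl⟩ := exists_unit hx hxP hy hy1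
    apply hne
    rw [← haval (χ : G → ℂ) _ u (fun v hv => hsec χ hχ u v hv)]
    exact hout χ hnot.1 (fun q h => hnot.2 (Finset.mem_image.2 ⟨q, Finset.mem_univ _, h⟩)) u
  -- values of the family on `x ^ u`
  have hconstv : ∀ χ ∈ R ∪ T, ∀ (u : (ZMod p)ˣ),
      aval x V (χ : G → ℂ) (u : ZMod p) = (χ : G → ℂ) (x ^ (u : ZMod p).val) := by
    intro χ hχ u
    refine haval _ _ u fun v hv => ?_
    rcases Finset.mem_union.1 hχ with h | h
    · have h0 := (hRv χ h).2 u 1 hV1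
      rw [mul_one] at h0
      rw [h0, (hRv χ h).2 u v hv]
    · obtain ⟨q, -, rfl⟩ := Finset.mem_image.1 h
      have h0 := hYv q u 1 hV1
      rw [mul_one] at h0
      rw [h0, hYv q u v hv]
  have hzero : ∀ χ ∈ R ∪ T, χ ∉ Cfsg.principalBlock M G → ∀ u : (ZMod p)ˣ,
      (χ : G → ℂ) (x ^ (u : ZMod p).val) = 0 := by
    intro χ hχ hχB u
    have hall := sum_mul_conj_aval hx h2 hV u u ⟨1, hV1⟩
    rw [if_pos rfl, ← Finset.sum_subset (Finset.subset_univ (R ∪ T)) (fun ξ _ hξ => by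
      rw [Finset.mem_union, not_or] at hξ
      rw [hout ξ hξ.1 (fun q h => hξ.2 (Finset.mem_image.2 ⟨q, Finset.mem_univ _, h⟩)) u,
        map_zero, mul_zero])] at hall
    simp only [mul_one] at hall
    have hall' : ∑ ξ ∈ R ∪ T, ‖(ξ : G → ℂ) (x ^ (u : ZMod p).val)‖ ^ 2 = (p : ℝ) := by
      rw [Finset.sum_congr rfl (fun ξ hξ => by rw [hconstv ξ hξ u])] at hall
      simp only [Complex.mul_conj'] at hall
      exact_mod_cast hall
    have hblock := FpfBlock.Setting.sum_norm_sq hF M hM (pow_mem_P hxP (u : ZMod p).val)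
      (pow_unit_ne_one hx u)
    rw [finsum_mem_eq_finite_toFinset_sum _ (Set.toFinite _), hP] at hblock
    have hBsub : (Set.toFinite (Cfsg.principalBlock M G)).toFinset ⊆ R ∪ T := fun ξ hξ =>
      hsub ξ (by simpa using hξ)
    rw [← Finset.sum_sdiff hBsub, hblock, add_eq_right,
      Finset.sum_eq_zero_iff_of_nonneg fun ξ _ => sq_nonneg _] at hall'
    simpa using hall' χ (Finset.mem_sdiff.2 ⟨hχ, by simpa using hχB⟩)
  have hmemB : ∀ χ ∈ R ∪ T, χ ∈ Cfsg.principalBlock M G := by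
    intro χ hχ
    by_contra hχB
    have h0 := hzero χ hχ hχB
    rcases Finset.mem_union.1 hχ with h | h
    · have h1 := (hRv χ h).2 1 1 hV1
      rw [mul_one, h0 1] at h1
      rcases (hRv χ h).1 with e | e <;> rw [e] at h1 <;> norm_num at h1
    · obtain ⟨q, -, rfl⟩ := Finset.mem_image.1 h
      have hη : ∀ r, eta (autE hxp) r = 0 := by
        intro r
        obtain ⟨u, hu⟩ := QuotientGroup.mk_surjective (q⁻¹ * r)
        have h1 := hYv q u 1 hV1
        rw [mul_one, h0 u, hu, mul_inv_cancel_left] at h1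
        have hδ0 : (δ : ℂ) ≠ 0 := by rcases hδ with e | e <;> rw [e] <;> norm_num
        exact (mul_eq_zero.1 h1.symm).resolve_left hδ0
      have := sum_eta (E := autE hxp)
      simp [hη] at this
  have hdisj : Disjoint R T := Finset.disjoint_left.2 fun χ hχ hχT => by
    obtain ⟨q, -, rfl⟩ := Finset.mem_image.1 hχT
    exact hYR q hχ
  have hdeg : ∀ χ ∈ R, (Cfsg.charDegree (χ : G → ℂ) : ℤ) ≡ a χ [ZMOD p] := fun χ hχ =>
    degree_congr hx χ fun u => by simpa using (hRv χ hχ).2 u 1 hV1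
  refine ⟨R, T, a, δ, ?_, hdisj, hRc, ?_, hδ, fun χ hχ => ⟨(hRv χ hχ).1, hdeg χ hχ, ?_⟩, ?_, ?_, ?_⟩
  · ext χ
    rw [← Finset.coe_union, Finset.mem_coe]
    exact ⟨hsub χ, hmemB χ⟩
  · rw [hT, Finset.card_image_of_injective _ hYinj, Finset.card_univ]
    have h := card_mul_card (E := autE hxp)
    rw [← h, Nat.card_eq_fintype_card, Nat.mul_div_cancel _ Fintype.card_pos]
  · intro y hy hy1 v hv hv'
    obtain ⟨u, rfl⟩ := exists_unit hx hxP hy hy1
    exact (hRv χ hχ).2 u v ((hV v).2 ⟨Subgroup.mem_centralizer_singleton_iff.2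
      ((mem_centralizer_iff' hxP).1 hv).eq, hv'⟩)
  · intro θ hθ
    obtain ⟨q, -, rfl⟩ := Finset.mem_image.1 hθ
    have h := hrel 1 (by simpa using (Fact.out : p.Prime).ne_one)
    rw [← hYreg q 1 (by simpa using (Fact.out : p.Prime).ne_one)] at h
    simp only [Blocks.char_one_eq_degree] at h
    have h' : ∑ χ ∈ R, a χ * (Cfsg.charDegree (χ : G → ℂ) : ℤ) =
        δ * (Cfsg.charDegree (Y q : G → ℂ) : ℤ) := by exact_mod_cast h
    have hmod : δ * (Cfsg.charDegree (Y q : G → ℂ) : ℤ) ≡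
        ((Nat.card (autE hxp) : ℕ) : ℤ) [ZMOD p] := by
      rw [← h', ← hRc, show ((R.card : ℕ) : ℤ) = ∑ _χ ∈ R, (1 : ℤ) by simp,
        Int.modEq_iff_dvd, ← Finset.sum_sub_distrib]
      refine Finset.dvd_sum fun χ hχ => ?_
      have := Int.modEq_iff_dvd.1 ((hdeg χ hχ).mul_left (a χ))
      rcases (hRv χ hχ).1 with e | e <;> rw [e] at this ⊢ <;> simpa using this
    have := hmod.mul_left δ
    rcases hδ with e | e <;> rw [e] at this ⊢ <;> simpa using this
  · intro θ hθ θ' hθ' g hg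
    obtain ⟨q, -, rfl⟩ := Finset.mem_image.1 hθ
    obtain ⟨q', -, rfl⟩ := Finset.mem_image.1 hθ'
    rw [hYreg q g hg, hYreg q' g hg]
  · intro θ hθ g hg
    obtain ⟨q, -, rfl⟩ := Finset.mem_image.1 hθ
    rw [hYreg q g hg]
    exact (hrel g hg).symm

end Cfsg.Agent.Lib.PrimePrincipal.Main
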