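import Cfsg.Agent.Lib.FirstPower.Family
import Cfsg.Agent.Lib.FpfBlock.Setting

/-!
# A Sylow subgroup of prime order and its cyclic automiser

`x` generates the Sylow subgroup `P` of order `p`; the exponents fusing `x` are the image of
`N_G(P)` in `(ZMod p)ˣ`, so some `n` induces a generator and `Fpf P n |E|` holds.
-/

set_option autoImplicit false
set_option linter.unusedSectionVars false

namespace Cfsg.Agent.Lib.PrimePrincipal.Setup

open Cfsg.Agent.Lib.FirstPower Average Family
open Cfsg.Agent.Lib.FpfBlock.Setting (Fpf)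

universe u

variable {p : ℕ} [Fact p.Prime] {G : Type u} [Group G] [Finite G] (P : Sylow p G)

theorem not_sq_dvd (hP : Nat.card P = p) : ¬ p ^ 2 ∣ Nat.card G := by
  intro h
  have h1 := (Nat.Prime.pow_dvd_iff_le_factorization (Fact.out : p.Prime) Nat.card_pos.ne').1 h
  have h2 := P.card_eq_multiplicity
  rw [hP] at h2
  have h3 : p ^ 2 ≤ p ^ (Nat.card G).factorization p :=
    Nat.pow_le_pow_right (Fact.out : p.Prime).pos h1
  rw [← h2] at h3
  have := (Fact.out : p.Prime).two_le
  nlinarith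

theorem exists_gen (hP : Nat.card P = p) :
    ∃ x : G, orderOf x = p ∧ Subgroup.zpowers x = (P : Subgroup G) := by
  haveI : IsCyclic (P : Subgroup G) := isCyclic_of_prime_card hP
  obtain ⟨g, hg⟩ := IsCyclic.exists_zpow_surjective (G := (P : Subgroup G))
  refine ⟨(g : G), ?_, ?_⟩
  · rw [Subgroup.orderOf_coe, orderOf_eq_card_of_forall_mem_zpowers fun y => hg y]
    exact hP
  · refine le_antisymm (Subgroup.zpowers_le.2 g.2) fun y hy => ?_
    obtain ⟨k, hk⟩ := hg ⟨y, hy⟩
    exact ⟨k, by simpa using congrArg Subtype.val hk⟩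

variable {P} {x : G}

/-- Commuting with `x` is centralising `P`. -/
theorem mem_centralizer_iff' (hxP : Subgroup.zpowers x = (P : Subgroup G)) {c : G} :
    c ∈ Subgroup.centralizer ((P : Subgroup G) : Set G) ↔ Commute c x := by
  constructor
  · intro hc
    exact (Subgroup.mem_centralizer_iff.1 hc x (hxP ▸ Subgroup.mem_zpowers x)).symm
  · intro hc
    rw [Subgroup.mem_centralizer_iff]
    intro a ha
    rw [SetLike.mem_coe, ← hxP, Subgroup.mem_zpowers_iff] at ha
    obtain ⟨k, rfl⟩ := ha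
    exact ((hc.zpow_right k).eq).symm

/-- The powers of `x` with unit exponent are the non-identity elements of `P`. -/
theorem exists_unit (hx : orderOf x = p) (hxP : Subgroup.zpowers x = (P : Subgroup G)) {y : G}
    (hy : y ∈ (P : Subgroup G)) (hy1 : y ≠ 1) : ∃ u : (ZMod p)ˣ, y = x ^ (u : ZMod p).val := by
  obtain ⟨a, ha⟩ := (mem_zpowers_iff_val (pow_eq_one_of_order hx)).1 (hxP ▸ hy : y ∈ Subgroup.zpowers x)
  refine ⟨Units.mk0 a fun h => hy1 ?_, ha.symm⟩
  rw [← ha, h, ZMod.val_zero, pow_zero]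

theorem pow_unit_ne_one (hx : orderOf x = p) (u : (ZMod p)ˣ) : x ^ (u : ZMod p).val ≠ 1 := fun h =>
  u.ne_zero (pow_val_inj hx (h.trans (by simp)))

theorem pow_mem_P (hxP : Subgroup.zpowers x = (P : Subgroup G)) (k : ℕ) :
    x ^ k ∈ (P : Subgroup G) := hxP ▸ pow_mem (Subgroup.mem_zpowers x) k

/-- The automiser. -/
theorem exists_fpf (hx : orderOf x = p) (hxP : Subgroup.zpowers x = (P : Subgroup G)) :
    ∃ n : G, Fpf P n (Nat.card (autE (pow_eq_one_of_order hx))) ∧
      (Subgroup.centralizer ((P : Subgroup G) : Set G)).relIndex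
        (Subgroup.normalizer ((P : Subgroup G) : Set G)) =
        Nat.card (autE (pow_eq_one_of_order hx)) := by
  classical
  have hxp := pow_eq_one_of_order hx
  set E := autE hxp with hE
  set C := Subgroup.centralizer ((P : Subgroup G) : Set G) with hC
  set N := Subgroup.normalizer ((P : Subgroup G) : Set G) with hN
  obtain ⟨u0, hu0⟩ := IsCyclic.exists_generator (α := E)
  have hord : orderOf u0 = Nat.card E := orderOf_eq_card_of_forall_mem_zpowers hu0
  obtain ⟨n, hn⟩ := isConj_iff.1 ((mem_autE hxp).1 u0.2)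
  have hmap : Subgroup.zpowers (n * x * n⁻¹) = (P : Subgroup G) := by
    refine Subgroup.eq_of_le_of_card_ge ?_ ?_
    · rw [hn]; exact Subgroup.zpowers_le.2 (pow_mem_P hxP _)
    · rw [Nat.card_zpowers, ← MulAut.conj_apply, MulEquiv.orderOf_eq, ← hxP, Nat.card_zpowers]
  have hnN : n ∈ N := by
    rw [hN, Subgroup.mem_normalizer_iff_map_conj_eq]
    conv_lhs => rw [← hxP]
    rw [MonoidHom.map_zpowers]
    simpa using hmap
  have hconj : ∀ (i : ℕ) (a : ZMod p),
      n ^ i * x ^ a.val * (n ^ i)⁻¹ = x ^ ((((u0 : (ZMod p)ˣ) : ZMod p)) ^ i * a).val := by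
    intro i
    induction i with
    | zero => intro a; simp
    | succ i ih =>
      intro a
      have h1 : n * x ^ a.val * n⁻¹ = x ^ (((u0 : (ZMod p)ˣ) : ZMod p) * a).val := by
        rw [← conj_pow, hn, ← pow_val_mul hxp]
      calc n ^ (i + 1) * x ^ a.val * (n ^ (i + 1))⁻¹
          = n ^ i * (n * x ^ a.val * n⁻¹) * (n ^ i)⁻¹ := by rw [pow_succ]; group
        _ = _ := by rw [h1, ih, pow_succ, mul_assoc]
  set m := Nat.card E with hm
  have hmpos : 0 < m := Nat.card_pos
  have hmem : ∀ i : ℕ, n ^ i ∈ C ↔ m ∣ i := by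
    intro i
    rw [hC, mem_centralizer_iff' hxP, ← hord, orderOf_dvd_iff_pow_eq_one]
    have h := hconj i 1
    rw [pow_val_one hxp, mul_one] at h
    constructor
    · intro hc
      rw [hc.eq, mul_inv_cancel_right] at h
      refine Subtype.ext (Units.ext ?_)
      push_cast
      exact (pow_val_inj hx ((pow_val_one hxp).trans h)).symm
    · intro hu
      have hu' : ((u0 : (ZMod p)ˣ) : ZMod p) ^ i = 1 := by
        have h' : ((u0 ^ i : E) : (ZMod p)ˣ) = ((1 : E) : (ZMod p)ˣ) := congrArg Subtype.val hu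
        have h'' := congrArg (fun u : (ZMod p)ˣ => (u : ZMod p)) h'
        simpa using h''
      rw [hu', pow_val_one hxp] at h
      exact mul_inv_eq_iff_eq_mul.1 h
  have hEpow : ∀ w : (ZMod p)ˣ, w ∈ E →
      ∃ i : Fin m, ((u0 : (ZMod p)ˣ) : ZMod p) ^ (i : ℕ) = (w : ZMod p) := by
    intro w hw
    obtain ⟨j, hj⟩ := ((isOfFinOrder_of_finite u0).mem_powers_iff_mem_zpowers).2 (hu0 ⟨w, hw⟩)
    refine ⟨⟨j % m, Nat.mod_lt _ hmpos⟩, ?_⟩
    have h' := congrArg (fun u : E => ((u : (ZMod p)ˣ) : ZMod p)) hj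
    simp only at h'
    rw [← pow_mod_orderOf, hord] at h'
    simpa using h'
  have hF : Fpf P n m :=
    { pos := hmpos
      comm := fun a ha b hb => by
        rw [← hxP, Subgroup.mem_zpowers_iff] at ha hb
        obtain ⟨i, rfl⟩ := ha
        obtain ⟨j, rfl⟩ := hb
        exact ((Commute.refl x).zpow_zpow i j).eq
      mem := hnN
      pow := (hmem m).2 (dvd_refl m)
      fix := fun z hz hz1 i hi => by
        obtain ⟨u, rfl⟩ := exists_unit hx hxP hz hz1
        rw [hconj] at hi
        have h2 := pow_val_inj hx hi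
        rw [mul_eq_right₀ u.ne_zero] at h2
        refine hord ▸ orderOf_dvd_of_pow_eq_one (Subtype.ext (Units.ext ?_))
        push_cast
        exact h2
      fus := fun a ha b hb hab => by
        by_cases ha1 : a = 1
        · subst ha1
          exact ⟨⟨0, hmpos⟩, by simp [isConj_one_right.1 hab]⟩
        have hb1 : b ≠ 1 := fun h => ha1 (isConj_one_left.1 (h ▸ hab))
        obtain ⟨u, rfl⟩ := exists_unit hx hxP ha ha1
        obtain ⟨w, rfl⟩ := exists_unit hx hxP hb hb1
        have hmk := (isConj_iff_mk hxp u w).1 hab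
        rw [QuotientGroup.eq] at hmk
        obtain ⟨i, hi⟩ := hEpow _ hmk
        refine ⟨i, ?_⟩
        rw [hconj, hi, ← Units.val_mul, mul_comm, mul_inv_cancel_left]
      cen := fun c _ z hz hz1 hcz => by
        obtain ⟨u, rfl⟩ := exists_unit hx hxP hz hz1
        rw [mem_centralizer_iff' hxP]
        have := hcz.pow_right ((u⁻¹ : (ZMod p)ˣ) : ZMod p).val
        rwa [← pow_val_mul hxp, ← Units.val_mul, mul_inv_cancel, Units.val_one,
          pow_val_one hxp] at this }
  refine ⟨n, hF, ?_⟩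
  have hcover : ∀ c : G, c ∈ N → ∃ i : Fin m, (n ^ (i : ℕ))⁻¹ * c ∈ C := by
    intro c hc
    have hcx : c * x * c⁻¹ ∈ (P : Subgroup G) :=
      (Subgroup.mem_normalizer_iff.1 hc x).1 (hxP ▸ Subgroup.mem_zpowers x)
    have hne : c * x * c⁻¹ ≠ 1 := by
      rw [Ne, conj_eq_one_iff]
      intro h
      rw [h, orderOf_one] at hx
      exact (Fact.out : p.Prime).ne_one hx.symm
    obtain ⟨w, hw⟩ := exists_unit hx hxP hcx hne
    obtain ⟨i, hi⟩ := hEpow w ((mem_autE hxp).2 (isConj_iff.2 ⟨c, hw⟩))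
    refine ⟨i, (mem_centralizer_iff' hxP).2 ?_⟩
    have h := hconj i 1
    rw [mul_one, pow_val_one hxp, hi, ← hw] at h
    show (n ^ (i : ℕ))⁻¹ * c * x = x * ((n ^ (i : ℕ))⁻¹ * c)
    calc (n ^ (i : ℕ))⁻¹ * c * x = (n ^ (i : ℕ))⁻¹ * (c * x * c⁻¹) * c := by group
      _ = (n ^ (i : ℕ))⁻¹ * (n ^ (i : ℕ) * x * (n ^ (i : ℕ))⁻¹) * c := by rw [h]
      _ = x * ((n ^ (i : ℕ))⁻¹ * c) := by group
  rw [Subgroup.relIndex, Subgroup.index_eq_card]
  let φ : Fin m → N ⧸ C.subgroupOf N := fun i => QuotientGroup.mk ⟨n ^ (i : ℕ), pow_mem hnN _⟩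
  have hbij : Function.Bijective φ := by
    constructor
    · intro i j hij
      rw [QuotientGroup.eq, Subgroup.mem_subgroupOf] at hij
      simp only [Subgroup.coe_mul, Subgroup.coe_inv] at hij
      rcases le_total (i : ℕ) j with hle | hle
      · have h' : n ^ ((j : ℕ) - i) ∈ C := by
          rw [show n ^ ((j : ℕ) - i) = (n ^ (i : ℕ))⁻¹ * n ^ (j : ℕ) from
            eq_inv_mul_of_mul_eq (by rw [← pow_add, Nat.add_sub_cancel' hle])]
          exact hij
        have := Nat.eq_zero_of_dvd_of_lt ((hmem _).1 h') (by omega)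
        exact Fin.ext (by omega)
      · have h' : n ^ ((i : ℕ) - j) ∈ C := by
          rw [show n ^ ((i : ℕ) - j) = ((n ^ (i : ℕ))⁻¹ * n ^ (j : ℕ))⁻¹ from by
            rw [mul_inv_rev, inv_inv]
            exact eq_inv_mul_of_mul_eq (by rw [← pow_add, Nat.add_sub_cancel' hle])]
          exact inv_mem hij
        have := Nat.eq_zero_of_dvd_of_lt ((hmem _).1 h') (by omega)
        exact Fin.ext (by omega)
    · intro q
      induction q using QuotientGroup.induction_on with
      | _ c =>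
        obtain ⟨i, hi⟩ := hcover c c.2
        refine ⟨i, ?_⟩
        rw [QuotientGroup.eq, Subgroup.mem_subgroupOf]
        simpa using hi
  rw [← Nat.card_eq_of_bijective φ hbij, Nat.card_eq_fintype_card, Fintype.card_fin]

end Cfsg.Agent.Lib.PrimePrincipal.Setup
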